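import Groth.Agent.ProjClosedLib.Map
import Groth.Agent.ProjClosedLib.Frac
import Groth.Agent.TwistLib.HomGlue
import Groth.Agent.TwistLib.ProjSymExt

/-!
# Pulling `O(1)` back along `Proj` of a graded map
-/

set_option autoImplicit false
universe u

open CategoryTheory CategoryTheory.Limits AlgebraicGeometry TopologicalSpace Opposite
open HomogeneousLocalization AmpleLib

noncomputable section

namespace PicPnLib

variable {R R' A B : Type u} [CommRing R] [CommRing R'] [CommRing A] [Algebra R A] {𝒜 : ℕ → Submodule R A} [GradedAlgebra 𝒜]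
  [CommRing B] [Algebra R' B] {ℬ : ℕ → Submodule R' B} [GradedAlgebra ℬ]
  (φ : 𝒜 →+*ᵍ ℬ) (hφ : HomogeneousIdeal.irrelevant ℬ ≤ (HomogeneousIdeal.irrelevant 𝒜).map φ)

/-- the map on charts, on fractions -/
theorem map_appLE_fr {g : A} (hg : g ∈ 𝒜 1) {k : ℕ} {a : A} (ha : a ∈ 𝒜 k) :
    (Proj.map φ hφ).appLE (Proj.basicOpen 𝒜 g) (Proj.basicOpen ℬ (φ g)) le_rfl (ProjClosedLib.fr 𝒜 hg ha) =
      ProjClosedLib.fr ℬ (φ.map_mem hg) (φ.map_mem ha) := by
  have e := congrArg (fun f => f (Away.mk 𝒜 hg k a (by rwa [smul_eq_mul, mul_one])))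
    (Proj.awayToSection_comp_appLE φ hφ hg)
  simp only [CommRingCat.comp_apply, CommRingCat.hom_ofHom] at e
  exact e.trans (congrArg (Proj.awayToSection ℬ (φ g))
    (Away.map_mk φ g hg k a (by rwa [smul_eq_mul, mul_one])))

theorem map_app_fr_eq_zero_iff {g : A} (hg : g ∈ 𝒜 1) {k : ℕ} {a : A} (ha : a ∈ 𝒜 k) :
    (Proj.map φ hφ).app (Proj.basicOpen 𝒜 g) (ProjClosedLib.fr 𝒜 hg ha) = 0 ↔
      ∃ N : ℕ, φ g ^ N * φ a = 0 := by
  rw [Scheme.Hom.app_eq_appLE]
  refine (Iff.of_eq (congrArg (· = 0) (map_appLE_fr φ hφ hg ha))).trans ?_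
  have hi : IsIso (Proj.awayToSection ℬ (φ g)) := by
    rw [← Proj.basicOpenIsoAway_hom ℬ (φ g) (φ.map_mem hg) one_pos]
    infer_instance
  refine (map_eq_zero_iff _ (ConcreteCategory.bijective_of_isIso (Proj.awayToSection ℬ (φ g))).1).trans ?_
  constructor
  · intro h
    have h' := congrArg HomogeneousLocalization.val h
    rw [Away.val_mk, HomogeneousLocalization.val_zero, ← Localization.mk_zero (1 : Submonoid.powers (φ g)),
      Localization.mk_eq_mk_iff, Localization.r_iff_exists] at h'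
    obtain ⟨⟨_, N, rfl⟩, hc⟩ := h'
    exact ⟨N, by simpa using hc⟩
  · rintro ⟨N, hN⟩
    apply HomogeneousLocalization.val_injective
    rw [Away.val_mk, HomogeneousLocalization.val_zero, ← Localization.mk_zero (1 : Submonoid.powers (φ g)),
      Localization.mk_eq_mk_iff, Localization.r_iff_exists]
    exact ⟨⟨φ g ^ N, N, rfl⟩, by simpa using hN⟩

/-- `O(1)` pulls back to `O(1)` -/
theorem exists_iso_pullback_map {ι : Type*} (t : ι → A) (ht : ∀ a, t a ∈ 𝒜 1)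
    (hcov : ∀ y : Proj ℬ, ∃ a, y ∈ Proj.basicOpen ℬ (φ (t a))) :
    Nonempty ((Scheme.Modules.pullback (Proj.map φ hφ)).obj (Twist.twist 𝒜 ((1 : ℕ) : ℤ)) ≅
      Twist.twist ℬ ((1 : ℕ) : ℤ)) := by
  let f := Proj.map φ hφ
  let O1 := Twist.twist 𝒜 ((1 : ℕ) : ℤ)
  let O1' := Twist.twist ℬ ((1 : ℕ) : ℤ)
  let D : ι → (Proj ℬ).Opens := fun a => f ⁻¹ᵁ Proj.basicOpen 𝒜 (t a)
  let e : ∀ a, Γ(KFlatLib.pb f O1, D a) := fun a =>
    KFlatLib.puSec f (res O1 (le_top : Proj.basicOpen 𝒜 (t a) ≤ ⊤) (Twist.globalOf 𝒜 ⟨t a, ht a⟩))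
  have hD : ∀ a, D a = Proj.basicOpen ℬ (φ (t a)) := fun a => rfl
  let g : ∀ a, Γ(O1', D a) := fun a =>
    res O1' (le_top : D a ≤ ⊤) (Twist.globalOf ℬ ⟨φ (t a), φ.map_mem (ht a)⟩)
  have he : ∀ a, GenOn (KFlatLib.pb f O1) (e a) := fun a =>
    TwistLib.genOn_of_genAt fun x hx =>
      TwistLib.GenAt.puSec f ((TwistLib.globalOf_genOn 𝒜 (ht a)).genAt hx)
  obtain ⟨β, hβ⟩ := TwistLib.exists_hom_of_gens (M := KFlatLib.pb f O1) (N := O1') D e g hcov he
    (fun a b V ha hb c hc => by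
      have h1 := congrArg (KFlatLib.puSec f) (TwistLib.frac_smul_globalOf 𝒜 (ht a) (ht b))
      rw [TwistLib.puSec_smul,
        TwistLib.puSec_res f le_top (show Γ(O1, ⊤) from Twist.globalOf 𝒜 ⟨t b, ht b⟩)] at h1
      have h2 := congrArg (res (KFlatLib.pb f O1) ha) h1
      rw [res_smul, res_res] at h2
      have h3 : res (KFlatLib.pb f O1) hb (e b) =
          res (KFlatLib.pb f O1) (le_top : V ≤ f ⁻¹ᵁ ⊤) (KFlatLib.puSec f (show Γ(O1, ⊤) from Twist.globalOf 𝒜 ⟨t b, ht b⟩)) := by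
        exact (congrArg (res (KFlatLib.pb f O1) hb)
          (TwistLib.puSec_res f le_top (show Γ(O1, ⊤) from Twist.globalOf 𝒜 ⟨t b, ht b⟩))).trans (res_res _ _ _ _)
      have hc' := (he a V ha).1 (hc.trans (h3.trans h2.symm))
      have e2 : f.app (Proj.basicOpen 𝒜 (t a)) (Proj.awayToSection 𝒜 (t a) (TwistLib.frac 𝒜 (ht a) (ht b))) =
          Proj.awayToSection ℬ (φ (t a)) (TwistLib.frac ℬ (φ.map_mem (ht a)) (φ.map_mem (ht b))) := by
        rw [Scheme.Hom.app_eq_appLE]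
        exact map_appLE_fr φ hφ (ht a) (ht b)
      have h4 := congrArg (res O1' (show V ≤ Proj.basicOpen ℬ (φ (t a)) from ha))
        (TwistLib.frac_smul_globalOf ℬ (φ.map_mem (ht a)) (φ.map_mem (ht b)))
      rw [res_smul, res_res, res_res] at h4
      rw [hc']
      refine Eq.trans ?_ (h4.trans (res_res O1' le_top hb _).symm)
      refine congrArg₂ (fun (x : Γ(Proj ℬ, V)) y => x • y) (congrArg _ e2) (res_res O1' le_top ha _))
  haveI : IsIso β := by
    refine TwistLib.isIso_of_gen β fun x => ?_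
    obtain ⟨a, hx⟩ := hcov x
    exact ⟨D a, hx, e a, (he a).genAt hx, (hβ a).symm ▸ (TwistLib.globalOf_genOn ℬ (φ.map_mem (ht a))).genAt hx⟩
  exact ⟨asIso β⟩

end PicPnLib

end
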