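import Groth.Agent.PicPnLib.Twist
import Groth.Agent.RTrivLib.P1
import Groth.Agent.PicPnLib.MapTwist
import Groth.Agent.AmpleDevLib.Pull
import Groth.Agent.KFlatLib.LpullTensor
import Groth.Agent.AmpleThLib.Pow
import Groth.Prelude.Def_Twist2

/-!
# Base change of projective space and of its twists
-/

set_option autoImplicit false
set_option linter.style.haveILetI false
set_option maxHeartbeats 1000000
universe u

open CategoryTheory CategoryTheory.Limits AlgebraicGeometry TopologicalSpace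
open KFlatLib (pb)

noncomputable section

namespace PicPnLib

/-- Cancellation of a line bundle. -/
def unitRight {X : Scheme.{u}} (A : X.Modules) : CohB1.tensorMod A (Coh.structureModule X) ≅ A :=
  HilbPolyLib.swapIso A _ ≪≫ HilbPolyLib.unitLeft A

theorem nonempty_cancel {X : Scheme.{u}} {A B B' C : X.Modules} (h : CohB1.tensorMod A B ≅ C)
    (hB : CohB1.tensorMod B B' ≅ Coh.structureModule X) : Nonempty (A ≅ CohB1.tensorMod C B') :=
  ⟨(unitRight A).symm ≪≫ HilbPolyLib.congrRight A hB.symm ≪≫ (HilbPolyLib.assocIso A B B').symm ≪≫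
    HilbPolyLib.congrLeft h B'⟩

/-- A multiplicative family of modules is determined by its first term. -/
theorem nonempty_iso_family {X : Scheme.{u}} (A B : ℤ → X.Modules)
    (addA : ∀ a b, Nonempty (CohB1.tensorMod (A a) (A b) ≅ A (a + b))) (zA : Nonempty (A 0 ≅ Coh.structureModule X))
    (addB : ∀ a b, Nonempty (CohB1.tensorMod (B a) (B b) ≅ B (a + b))) (zB : Nonempty (B 0 ≅ Coh.structureModule X))
    (one : Nonempty (A 1 ≅ B 1)) (d : ℤ) : Nonempty (A d ≅ B d) := by
  have nat : ∀ m : ℕ, Nonempty (A m ≅ B m) := fun m => by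
    induction m with
    | zero => exact ⟨zA.some ≪≫ zB.some.symm⟩
    | succ m ih =>
      exact ⟨eqToIso (congrArg A (Nat.cast_succ m)) ≪≫ (addA (m : ℤ) 1).some.symm ≪≫
        HilbPolyLib.congrLeft ih.some _ ≪≫ HilbPolyLib.congrRight _ one.some ≪≫
        (addB (m : ℤ) 1).some ≪≫ eqToIso (congrArg B (Nat.cast_succ m).symm)⟩
  obtain ⟨m, rfl | rfl⟩ := Int.eq_nat_or_neg d
  · exact nat m
  · obtain ⟨e⟩ := nonempty_cancel
      (HilbPolyLib.congrRight (A (-(m : ℤ))) (nat m).some.symm ≪≫ (addA (-(m : ℤ)) m).some ≪≫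
        eqToIso (congrArg A (neg_add_cancel (m : ℤ))) ≪≫ zA.some)
      ((addB m (-(m : ℤ))).some ≪≫ eqToIso (congrArg B (add_neg_cancel (m : ℤ))) ≪≫ zB.some)
    exact ⟨e ≪≫ HilbPolyLib.unitLeft _⟩

section Over

variable (n : ℕ) (S : Scheme.{u})

theorem twistOver_inv (d : ℤ) : PicF.IsInvertible (Twist.twistOver n S d) :=
  AmpleDevLib.isInvertible_pb _ (twist_inv n _ d)

theorem twistOver_add (a b : ℤ) :
    Nonempty (CohB1.tensorMod (Twist.twistOver n S a) (Twist.twistOver n S b) ≅ Twist.twistOver n S (a + b)) :=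
  ⟨(asIso (KFlatLib.pullθ _ _ _)).symm ≪≫ (Scheme.Modules.pullback _).mapIso (twist_add n _ a b).some⟩

theorem twistOver_zero : Nonempty (Twist.twistOver n S 0 ≅ Coh.structureModule (CohB1.ProjSpaceOver n S)) :=
  ⟨(Scheme.Modules.pullback _).mapIso (twist_zero n _).some ≪≫ KFlatLib.pullUnitIso _⟩

theorem twistOver_neg (a : ℤ) :
    Nonempty (CohB1.tensorMod (Twist.twistOver n S a) (Twist.twistOver n S (-a)) ≅
      Coh.structureModule (CohB1.ProjSpaceOver n S)) :=
  ⟨(twistOver_add n S a (-a)).some ≪≫ eqToIso (congrArg _ (add_neg_cancel a)) ≪≫ (twistOver_zero n S).some⟩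

end Over

variable (n : ℕ) (R : Type u) [CommRing R]

attribute [local instance] MvPolynomial.algebraMvPolynomial

/-- `P^n_R → P^n_ℤ`, with the twists. -/
theorem exists_map : ∃ q : CohB1.ProjSpace n R ⟶ CohB1.ProjSpace n (ULift.{u} ℤ),
    IsPullback q (CohB1.ProjSpace.toSpec n R) (CohB1.ProjSpace.toSpec n (ULift.{u} ℤ))
      (specULiftZIsTerminal.from (Spec (CommRingCat.of R))) ∧
    ∀ d : ℤ, Nonempty (pb q (Twist.twistProjSpace n (ULift.{u} ℤ) d) ≅ Twist.twistProjSpace n R d) := by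
  letI : Algebra (ULift.{u} ℤ) R := ((Int.castRingHom R).comp ULift.ringEquiv.toRingHom).toAlgebra
  let φ : CohB1.polyGrading n (ULift.{u} ℤ) →+*ᵍ CohB1.polyGrading n R :=
    { MvPolynomial.map (σ := Fin (n + 1)) (algebraMap (ULift.{u} ℤ) R) with
      map_mem := fun {i x} hx => MvPolynomial.IsHomogeneous.map hx _ }
  have hφA : ∀ b, φ b = algebraMap (MvPolynomial (Fin (n + 1)) (ULift.{u} ℤ)) (MvPolynomial (Fin (n + 1)) R) b :=
    fun b => rfl
  have hX : ∀ i, φ (MvPolynomial.X i) = MvPolynomial.X i := fun i => MvPolynomial.map_X _ _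
  have hirr : HomogeneousIdeal.irrelevant (CohB1.polyGrading n R) ≤
      (HomogeneousIdeal.irrelevant (CohB1.polyGrading n (ULift.{u} ℤ))).map φ := by
    intro x hx
    have hx0 : MvPolynomial.homogeneousComponent 0 x = 0 := by
      have := (HomogeneousIdeal.mem_irrelevant_iff _ x).mp hx
      exact (MvPolynomial.decomposition.decompose'_apply x 0).symm.trans this
    have hxs : x ∈ Ideal.span ((MvPolynomial.X (R := R)) '' (Set.univ : Set (Fin (n + 1)))) := by
      rw [MvPolynomial.mem_ideal_span_X_image]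
      intro m hm
      by_contra! hcon
      have hm0 : m = 0 := Finsupp.ext fun i => hcon i trivial
      rw [MvPolynomial.homogeneousComponent_zero, MvPolynomial.C_eq_zero] at hx0
      exact MvPolynomial.mem_support_iff.mp hm (hm0 ▸ hx0)
    refine (Ideal.span_le.mpr ?_) hxs
    rintro - ⟨i, -, rfl⟩
    have hX' := Ideal.mem_map_of_mem φ (HomogeneousIdeal.mem_irrelevant_of_mem (CohB1.polyGrading n (ULift.{u} ℤ))
      one_pos (MvPolynomial.isHomogeneous_X (ULift.{u} ℤ) i))
    exact hX i ▸ hX'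
  have h := Groth.Agent.S3554.result (R := R) (R' := ULift.{u} ℤ) (CohB1.polyGrading n (ULift.{u} ℤ))
    (CohB1.polyGrading n R) φ hφA hirr
  refine ⟨Proj.map φ hirr, ?_, ?_⟩
  · rw [specULiftZIsTerminal.hom_ext (specULiftZIsTerminal.from (Spec (CommRingCat.of R)))
      (Spec.map (CommRingCat.ofHom (algebraMap (ULift.{u} ℤ) R)))]
    exact h
  let q : CohB1.ProjSpace n R ⟶ CohB1.ProjSpace n (ULift.{u} ℤ) := Proj.map φ hirr
  refine fun d => nonempty_iso_family (fun d => pb q (Twist.twistProjSpace n (ULift.{u} ℤ) d))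
    (Twist.twistProjSpace n R)
    (fun a b => ⟨(asIso (KFlatLib.pullθ q _ _)).symm ≪≫ (Scheme.Modules.pullback q).mapIso (twist_add n _ a b).some⟩)
    ⟨(Scheme.Modules.pullback q).mapIso (twist_zero n _).some ≪≫ KFlatLib.pullUnitIso q⟩
    (twist_add n R) (twist_zero n R) ?_ d
  have h1 := exists_iso_pullback_map φ hirr (fun i : Fin (n + 1) => MvPolynomial.X i)
    (fun i => MvPolynomial.isHomogeneous_X _ i) fun y => by
      obtain ⟨i, hi⟩ := Opens.mem_iSup.mp ((QCohLib.iSup_stdOpen n R).ge (Opens.mem_top y))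
      exact ⟨i, by rw [hX]; exact hi⟩
  simp only [Nat.cast_one] at h1
  exact h1

/-- A point of the base with values in `R` gives a cartesian square from `P^n_R`. -/
theorem exists_square {S : Scheme.{u}} (g : Spec (CommRingCat.of R) ⟶ S) :
    ∃ j : CohB1.ProjSpace n R ⟶ CohB1.ProjSpaceOver n S,
      IsPullback j (CohB1.ProjSpace.toSpec n R) (CohB1.ProjSpaceOver.toBase n S) g ∧
      ∀ d : ℤ, Nonempty (pb j (Twist.twistOver n S d) ≅ Twist.twistProjSpace n R d) := by
  obtain ⟨q, hq, hd⟩ := exists_map n R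
  let j : CohB1.ProjSpace n R ⟶ CohB1.ProjSpaceOver n S := pullback.lift q (CohB1.ProjSpace.toSpec n R ≫ g)
    (by rw [Category.assoc, specULiftZIsTerminal.hom_ext (g ≫ specULiftZIsTerminal.from S)
      (specULiftZIsTerminal.from _)]; exact hq.w)
  have h1 : j ≫ pullback.fst _ _ = q := pullback.lift_fst ..
  have h2 : j ≫ CohB1.ProjSpaceOver.toBase n S = CohB1.ProjSpace.toSpec n R ≫ g := pullback.lift_snd ..
  refine ⟨j, IsPullback.of_right ?_ h2 (IsPullback.of_hasPullback (CohB1.ProjSpace.toSpec n (ULift.{u} ℤ))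
    (specULiftZIsTerminal.from S)), fun d => ⟨((Scheme.Modules.pullbackComp j _).app _) ≪≫
      (Scheme.Modules.pullbackCongr h1).app _ ≪≫ (hd d).some⟩⟩
  rw [h1, specULiftZIsTerminal.hom_ext (g ≫ specULiftZIsTerminal.from S) (specULiftZIsTerminal.from _)]
  exact hq

end PicPnLib
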