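import Groth.Agent.S0843
import Groth.Agent.S12453
import Groth.Agent.QCohLib.ProjSpace
import Groth.Agent.HilbPolyLib.Twist
import Groth.Agent.CurvLib.Line

/-!
# The twists on projective space are pairwise distinct
-/

set_option autoImplicit false
set_option linter.style.haveILetI false
universe u

open CategoryTheory CategoryTheory.Limits AlgebraicGeometry TopologicalSpace
open MvPolynomial (X C)

noncomputable section

namespace PicPnLib

variable (n : ℕ) (R : Type u) [CommRing R]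

theorem hcov : (⨆ f : CohB1.polyGrading n R 1,
    Proj.basicOpen (CohB1.polyGrading n R) (f : MvPolynomial (Fin (n + 1)) R)) = ⊤ := by
  refine eq_top_iff.mpr ((QCohLib.iSup_stdOpen n R).ge.trans (iSup_le fun i => ?_))
  exact le_iSup (fun f : CohB1.polyGrading n R 1 => Proj.basicOpen (CohB1.polyGrading n R) (f : MvPolynomial (Fin (n + 1)) R))
    ⟨X i, MvPolynomial.isHomogeneous_X R i⟩

theorem twist_inv (d : ℤ) : PicF.IsInvertible (Twist.twistProjSpace n R d) :=
  (Groth.Agent.S12453.result (CohB1.polyGrading n R) (hcov n R)).1 d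

theorem twist_add (a b : ℤ) :
    Nonempty (CohB1.tensorMod (Twist.twistProjSpace n R a) (Twist.twistProjSpace n R b) ≅
      Twist.twistProjSpace n R (a + b)) :=
  (Groth.Agent.S12453.result (CohB1.polyGrading n R) (hcov n R)).2.1 a b

theorem twist_zero : Nonempty (Twist.twistProjSpace n R 0 ≅ Coh.structureModule (CohB1.ProjSpace n R)) :=
  (Groth.Agent.S12453.result (CohB1.polyGrading n R) (hcov n R)).2.2 0

theorem not_iso_twist_pos [Nontrivial R] (hn : 1 ≤ n) {e : ℕ} (he : 0 < e) :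
    IsEmpty (Twist.twistProjSpace n R (e : ℤ) ≅ Twist.twistProjSpace n R ((0 : ℕ) : ℤ)) := by
  classical
  constructor
  intro i
  obtain ⟨a⟩ := Groth.Agent.S0843.result R n e
  obtain ⟨b⟩ := Groth.Agent.S0843.result R n 0
  have h : Nonempty (↥(MvPolynomial.homogeneousSubmodule (Fin (n + 1)) R e) ≃ₗ[R]
      ↥(MvPolynomial.homogeneousSubmodule (Fin (n + 1)) R 0)) := by
    letI : (CohB1.ProjSpace n R).Over (Spec (CommRingCat.of R)) := ⟨CohB1.ProjSpace.toSpec n R⟩
    let φ := AtlasCoh.hLin (CohB1.ProjSpace.toSpec n R) i.hom 0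
    have h1 : ∀ x, AtlasCoh.hLin (CohB1.ProjSpace.toSpec n R) i.inv 0 (φ x) = x := fun x => by
      change Sheaf.H.map ((QCohLib.toAbF _).map i.inv) 0 (Sheaf.H.map ((QCohLib.toAbF _).map i.hom) 0 x) = x
      rw [← Sheaf.H.map_comp_apply, ← Functor.map_comp, i.hom_inv_id, CategoryTheory.Functor.map_id,
        Sheaf.H.map_id_apply]
    have h2 : ∀ x, φ (AtlasCoh.hLin (CohB1.ProjSpace.toSpec n R) i.inv 0 x) = x := fun x => by
      change Sheaf.H.map ((QCohLib.toAbF _).map i.hom) 0 (Sheaf.H.map ((QCohLib.toAbF _).map i.inv) 0 x) = x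
      rw [← Sheaf.H.map_comp_apply, ← Functor.map_comp, i.inv_hom_id, CategoryTheory.Functor.map_id,
        Sheaf.H.map_id_apply]
    exact ⟨a.symm.trans ((LinearEquiv.ofBijective φ
      ⟨Function.LeftInverse.injective h1, Function.RightInverse.surjective h2⟩).trans b)⟩
  obtain ⟨θ⟩ := h
  obtain ⟨p, hp⟩ : ∃ p : ↥(MvPolynomial.homogeneousSubmodule (Fin (n + 1)) R e), ∀ q, ∃ c : R, c • p = q := by
    refine ⟨θ.symm ⟨1, MvPolynomial.isHomogeneous_one _ _⟩, fun q => ?_⟩
    obtain ⟨c, hc⟩ : ∃ c : R, (θ q : MvPolynomial (Fin (n + 1)) R) = C c :=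
      ⟨_, MvPolynomial.totalDegree_eq_zero_iff_eq_C.mp
        (Nat.le_zero.mp (MvPolynomial.IsHomogeneous.totalDegree_le
          ((MvPolynomial.mem_homogeneousSubmodule _ _).mp (θ q).2)))⟩
    refine ⟨c, θ.injective (Subtype.ext ?_)⟩
    rw [map_smul, θ.apply_symm_apply, hc, SetLike.val_smul, MvPolynomial.smul_eq_C_mul, mul_one]
  obtain ⟨a0, ha0⟩ := hp ⟨X 0 ^ e, MvPolynomial.isHomogeneous_X_pow 0 e⟩
  obtain ⟨a1, ha1⟩ := hp ⟨X 1 ^ e, MvPolynomial.isHomogeneous_X_pow 1 e⟩
  have hne : Finsupp.single (0 : Fin (n + 1)) e ≠ Finsupp.single 1 e := fun h => by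
    have h01 : (0 : Fin (n + 1)) ≠ 1 := by
      intro h'
      have := congrArg Fin.val h'
      simp [Nat.mod_eq_of_lt (show 1 < n + 1 by omega)] at this
    have := congrArg (fun f => f 0) h
    simp [h01.symm] at this
    omega
  have c0 := congrArg (fun q : ↥(MvPolynomial.homogeneousSubmodule (Fin (n + 1)) R e) =>
    MvPolynomial.coeff (Finsupp.single 1 e) (q : MvPolynomial (Fin (n + 1)) R)) ha0
  have c1 := congrArg (fun q : ↥(MvPolynomial.homogeneousSubmodule (Fin (n + 1)) R e) =>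
    MvPolynomial.coeff (Finsupp.single 1 e) (q : MvPolynomial (Fin (n + 1)) R)) ha1
  have c2 := congrArg (fun q : ↥(MvPolynomial.homogeneousSubmodule (Fin (n + 1)) R e) =>
    MvPolynomial.coeff (Finsupp.single 0 e) (q : MvPolynomial (Fin (n + 1)) R)) ha0
  simp only [SetLike.val_smul, MvPolynomial.coeff_smul, smul_eq_mul, MvPolynomial.coeff_X_pow, if_neg hne, ↓reduceIte] at c0 c1 c2
  have : a0 = 0 := by
    calc a0 = a0 * (a1 * MvPolynomial.coeff (Finsupp.single 1 e) (p : MvPolynomial (Fin (n + 1)) R)) := by rw [c1, mul_one]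
      _ = a1 * (a0 * MvPolynomial.coeff (Finsupp.single 1 e) (p : MvPolynomial (Fin (n + 1)) R)) := by ring
      _ = 0 := by rw [c0, mul_zero]
  rw [this, zero_mul] at c2
  exact zero_ne_one c2

theorem twist_injective [Nontrivial R] (hn : 1 ≤ n) {a b : ℤ}
    (i : Twist.twistProjSpace n R a ≅ Twist.twistProjSpace n R b) : a = b := by
  by_contra hne
  rcases lt_or_gt_of_ne hne with h | h
  · obtain ⟨e1⟩ := twist_add n R (-a) a
    obtain ⟨e2⟩ := twist_add n R (-a) b
    exact (not_iso_twist_pos n R hn (e := (b - a).toNat) (by omega)).false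
      (eqToIso (by congr 1; omega) ≪≫ e2.symm ≪≫ HilbPolyLib.congrRight _ i.symm ≪≫ e1 ≪≫ eqToIso (by congr 1; omega))
  · obtain ⟨e1⟩ := twist_add n R (-b) a
    obtain ⟨e2⟩ := twist_add n R (-b) b
    exact (not_iso_twist_pos n R hn (e := (a - b).toNat) (by omega)).false
      (eqToIso (by congr 1; omega) ≪≫ e1.symm ≪≫ HilbPolyLib.congrRight _ i ≪≫ e2 ≪≫ eqToIso (by congr 1; omega))

end PicPnLib
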