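import Groth.Agent.PicPnLib.UFD
import Groth.Agent.PicPnLib.BaseChange
import Groth.Agent.CohCmpLib.LiftSection
import Groth.Agent.CohCmpLib.FamilyPic2
import Groth.Agent.LerayLowLib.PullId
import Groth.Agent.MeroLib.RegSec
import Groth.Agent.ChowLib.Embed
import Groth.Agent.S0023
import Groth.Agent.S0024

/-!
# Invertible modules on projective space over a connected base
-/

set_option autoImplicit false
set_option linter.style.haveILetI false
set_option maxHeartbeats 1000000
universe u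

open CategoryTheory CategoryTheory.Limits AlgebraicGeometry TopologicalSpace Opposite
open KFlatLib (pb puSec puSecLE)
open AmpleLib (GenAt GenOn res)

noncomputable section

namespace PicPnLib

variable {X S : Scheme.{u}}

/-- A generator on every point of a scheme trivialises. -/
theorem nonempty_iso_of_genAt {M : X.Modules} (σ : Γ(M, ⊤)) (h : ∀ x : X, GenAt M σ (show x ∈ (⊤ : X.Opens) from trivial)) :
    Nonempty (M ≅ Coh.structureModule X) := by
  haveI := AmpleLib.isIso_unitHom σ (TwistLib.genOn_of_genAt fun x _ => h x)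
  exact ⟨(asIso (QCohLib.unitHom M σ)).symm⟩

theorem exists_genAt_of_iso {M : X.Modules} (e : M ≅ Coh.structureModule X) :
    ∃ σ : Γ(M, ⊤), ∀ x : X, GenAt M σ (show x ∈ (⊤ : X.Opens) from trivial) :=
  ⟨_, fun _ => (MeroLib.genOn_iso e.inv (AmpleLib.one_genOn (X := X) ⊤)).genAt trivial⟩

/-- Pullback commutes with tensor products. -/
def pullTens {Y : Scheme.{u}} (f : X ⟶ Y) (A B : Y.Modules) :
    pb f (CohB1.tensorMod A B) ≅ CohB1.tensorMod (pb f A) (pb f B) :=
  @asIso _ _ _ _ (KFlatLib.pullθ f A B) (KFlatLib.isIso_pullθ f A B)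

/-- A pullback along an isomorphism can be undone. -/
theorem iso_of_pb_iso {Y : Scheme.{u}} (σ : X ⟶ Y) [IsIso σ] {A B : Y.Modules} (e : pb σ A ≅ pb σ B) :
    Nonempty (A ≅ B) :=
  let t : ∀ M : Y.Modules, pb (inv σ) (pb σ M) ≅ M := fun M => (Scheme.Modules.pullbackComp _ _).app M ≪≫
    (Scheme.Modules.pullbackCongr (IsIso.inv_hom_id σ)).app M ≪≫ (Scheme.Modules.pullbackId Y).app M
  ⟨(t A).symm ≪≫ (Scheme.Modules.pullback (inv σ)).mapIso e ≪≫ t B⟩

/-- Being trivial on a fibre with no first cohomology is an open condition. -/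
theorem isOpen_trivial (f : X ⟶ S) [IsProper f] [Flat f] [LocallyOfFinitePresentation f] {L : X.Modules}
    (hL : PicF.IsInvertible L)
    (h1 : ∀ s : S, Subsingleton (Coh.HH (f.fiber s) (Coh.structureModule (f.fiber s)) 1)) :
    IsOpen {s : S | Nonempty (CohIII.fiberMod f L s ≅ Coh.structureModule (f.fiber s))} := by
  obtain ⟨hQ, hfp, hfl⟩ := CohCmpLib.rank_one_hyps f ((CohCmpLib.invertible_iff_rank_one L).1 hL)
  rw [isOpen_iff_forall_mem_open]
  intro s hs
  have he := CohCmpLib.epi_bc0_of_vanishing_one f hfp hfl s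
    (CohCmpLib.subsingleton_fiberH_of_trivial f 1 s hs (h1 s))
  obtain ⟨e, hgen⟩ := exists_genAt_of_iso hs.some
  obtain ⟨O, hsO, hle, m, hm⟩ := CohCmpLib.exists_lift_section f s he e
  let G : Set X := {x | ∃ h : x ∈ f ⁻¹ᵁ O, GenAt L m h}
  have hG : IsOpen G := by
    rw [isOpen_iff_forall_mem_open]
    rintro x ⟨hxO, hx⟩
    obtain ⟨U, g, hxU, hg⟩ := TwistLib.exists_genOn hL x
    obtain ⟨r, hr⟩ := (hg (f ⁻¹ᵁ O ⊓ U) inf_le_right).2 (res L inf_le_left m)
    dsimp only at hr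
    have key : ∀ (y : X) (hy : y ∈ f ⁻¹ᵁ O ⊓ U), GenAt L m hy.1 ↔ y ∈ X.basicOpen r := fun y hy => by
      rw [← AmpleLib.genAt_res (inf_le_left : f ⁻¹ᵁ O ⊓ U ≤ f ⁻¹ᵁ O) m hy, ← hr]
      exact AmpleLib.genAt_smul_iff r _ hy ((hg.res inf_le_right).genAt hy)
    refine ⟨X.basicOpen r, fun y hy => ?_, (X.basicOpen r).2, (key x ⟨hxO, hxU⟩).mp hx⟩
    have hyO := Scheme.basicOpen_le _ r hy
    exact ⟨hyO.1, (key y hyO).mpr hy⟩
  have hsG : ∀ x : X, f x = s → x ∈ G := fun x hx => by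
    obtain ⟨z, rfl⟩ : x ∈ Set.range (f.fiberι s) := by rw [f.range_fiberι]; exact hx
    have hz : z ∈ (⊤ : (f.fiber s).Opens) := trivial
    refine ⟨hle hz, CohCmpLib.genAt_of_puSec (f.fiberι s) hL m (hle hz) ?_⟩
    have h := hgen z
    rw [← hm, KFlatLib.puSecLE_apply] at h
    exact (AmpleLib.genAt_res hle (puSec (f.fiberι s) m) hz).1 h
  refine ⟨(f '' Gᶜ)ᶜ, fun t ht => ?_, (f.isClosedMap _ hG.isClosed_compl).isOpen_compl, ?_⟩
  · have htG : ∀ x : X, f x = t → x ∈ G := fun x hx => by_contra fun h => ht ⟨x, h, hx⟩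
    have hin : ∀ z : f.fiber t, f.fiberι t z ∈ G := fun z => htG _ (by
      have : f.fiberι t z ∈ Set.range (f.fiberι t) := ⟨z, rfl⟩
      rwa [f.range_fiberι] at this)
    have hle' : (⊤ : (f.fiber t).Opens) ≤ (f.fiberι t) ⁻¹ᵁ (f ⁻¹ᵁ O) := fun z _ => (hin z).1
    refine nonempty_iso_of_genAt (puSecLE (f.fiberι t) L hle' m) fun z => ?_
    rw [KFlatLib.puSecLE_apply]
    exact (AmpleLib.genAt_res hle' (puSec (f.fiberι t) m) _).2 (TwistLib.GenAt.puSec (f.fiberι t) (hin z).2)
  · rintro ⟨x, hx, hxs⟩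
    exact hx (hsG x hxs)

variable (r : ℕ) (S)

local notation "π" => CohB1.ProjSpaceOver.toBase r S

instance isProper_π : IsProper π := ChowLib.isProper_toBase r S

instance smooth_π : Smooth π := RTrivLib.smooth_toBase r S

theorem fibre_iso (s : S) : ∃ (θ : CohB1.ProjSpace r (S.residueField s) ⟶ Scheme.Hom.fiber π s), IsIso θ ∧
    θ ≫ Scheme.Hom.fiberToSpecResidueField π s = CohB1.ProjSpace.toSpec r (S.residueField s) ∧
    ∀ d : ℤ, Nonempty (pb θ (CohIII.fiberMod π (Twist.twistOver r S d) s) ≅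
      Twist.twistProjSpace r (S.residueField s) d) := by
  obtain ⟨j, hj, hd⟩ := exists_square r (S.residueField s) (S.fromSpecResidueField s)
  let θ := hj.isoPullback
  refine ⟨θ.hom, inferInstance, hj.isoPullback_hom_snd, fun d => ⟨(Scheme.Modules.pullbackComp θ.hom _).app _ ≪≫
    (Scheme.Modules.pullbackCongr hj.isoPullback_hom_fst).app _ ≪≫ (hd d).some⟩⟩

theorem finrank_global (s : S) :
    Module.finrank (S.residueField s) Γ(Scheme.Hom.fiber π s, ⊤) = 1 := by
  obtain ⟨θ, hθ, h, -⟩ := fibre_iso S r s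
  haveI := Groth.Agent.S0024.result r (S.residueField s)
  haveI : IsIso (θ ≫ Scheme.Hom.fiberToSpecResidueField π s).appTop := by rw [h]; infer_instance
  rw [Scheme.Hom.comp_appTop] at this
  haveI : IsIso θ.appTop := inferInstanceAs (IsIso (θ.app ⊤))
  haveI : IsIso (Scheme.Hom.fiberToSpecResidueField π s).appTop := IsIso.of_isIso_comp_right _ θ.appTop
  exact CohCmpLib.finrank_global_of_isIso π s

theorem h1_fibre (s : S) :
    Subsingleton (Coh.HH (Scheme.Hom.fiber π s) (Coh.structureModule (Scheme.Hom.fiber π s)) 1) := by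
  obtain ⟨θ, hθ, -, -⟩ := fibre_iso S r s
  exact LerayLowLib.subsingleton_HH_of_section θ (inv θ) (IsIso.inv_hom_id θ) _ 1
    (SerreVanLib.subsingleton_HH_of_iso (KFlatLib.pullUnitIso θ) 1
      (Groth.Agent.S0023.result r (S.residueField s) 1 one_pos))

/-- On each fibre an invertible module is a twist. -/
theorem exists_deg {N : (CohB1.ProjSpaceOver r S).Modules} (hN : PicF.IsInvertible N) (s : S) :
    ∃ d : ℤ, Nonempty (CohIII.fiberMod π N s ≅ CohIII.fiberMod π (Twist.twistOver r S d) s) := by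
  obtain ⟨θ, hθ, -, hd⟩ := fibre_iso S r s
  obtain ⟨d, ⟨e⟩⟩ := exists_twist r (S.residueField s)
    (AmpleDevLib.isInvertible_pb θ (AmpleDevLib.isInvertible_pb (Scheme.Hom.fiberι π s) hN))
  exact ⟨d, iso_of_pb_iso θ (e ≪≫ (hd d).some.symm)⟩

theorem deg_unique (hr : 1 ≤ r) (s : S) {a b : ℤ}
    (e : CohIII.fiberMod π (Twist.twistOver r S a) s ≅ CohIII.fiberMod π (Twist.twistOver r S b) s) : a = b := by
  obtain ⟨θ, hθ, -, hd⟩ := fibre_iso S r s
  exact twist_injective r (S.residueField s) hr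
    ((hd a).some.symm ≪≫ (Scheme.Modules.pullback θ).mapIso e ≪≫ (hd b).some)

/-- Twisting back. -/
theorem trivial_iff {N : (CohB1.ProjSpaceOver r S).Modules} (d : ℤ) (s : S) :
    Nonempty (CohIII.fiberMod π (CohB1.tensorMod N (Twist.twistOver r S (-d))) s ≅
      Coh.structureModule (Scheme.Hom.fiber π s)) ↔
      Nonempty (CohIII.fiberMod π N s ≅ CohIII.fiberMod π (Twist.twistOver r S d) s) := by
  let ι := Scheme.Hom.fiberι π s
  have hneg : CohB1.tensorMod (pb ι (Twist.twistOver r S d)) (pb ι (Twist.twistOver r S (-d))) ≅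
      Coh.structureModule (Scheme.Hom.fiber π s) :=
    (pullTens ι _ _).symm ≪≫ (Scheme.Modules.pullback ι).mapIso (twistOver_neg r S d).some ≪≫
      KFlatLib.pullUnitIso ι
  refine ⟨fun ⟨e⟩ => ?_, fun ⟨e⟩ => ?_⟩
  · obtain ⟨e'⟩ := nonempty_cancel (A := pb ι N) ((pullTens ι N _).symm ≪≫ e)
      (HilbPolyLib.swapIso _ _ ≪≫ hneg)
    exact ⟨e' ≪≫ HilbPolyLib.unitLeft _⟩
  · exact ⟨pullTens ι N _ ≪≫ HilbPolyLib.congrLeft e _ ≪≫ hneg⟩

/-- Existence, for a preconnected base. -/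
theorem exists_decomp [PreconnectedSpace S] [Nonempty S] {N : (CohB1.ProjSpaceOver r S).Modules}
    (hN : PicF.IsInvertible N) :
    ∃ (L : S.Modules) (d : ℤ), PicF.IsInvertible L ∧
      Nonempty (N ≅ CohB1.tensorMod ((Scheme.Modules.pullback π).obj L) (Twist.twistOver r S d)) := by
  let A : ℤ → Set S := fun d => {s | Nonempty (CohIII.fiberMod π N s ≅ CohIII.fiberMod π (Twist.twistOver r S d) s)}
  have hA : ∀ d, IsOpen (A d) := fun d => by
    have h := isOpen_trivial π (L := CohB1.tensorMod N (Twist.twistOver r S (-d)))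
      (HilbPolyLib.isInvertible_tensor hN (twistOver_inv r S _)) (h1_fibre S r)
    simpa only [trivial_iff] using h
  obtain ⟨d, hd⟩ : ∃ d : ℤ, ∀ s, s ∈ A d := by
    obtain ⟨s₀⟩ := ‹Nonempty S›
    rcases Nat.eq_zero_or_pos r with hr | hr
    · refine ⟨0, fun s => ?_⟩
      obtain ⟨d, ⟨e⟩⟩ := exists_deg S r hN s
      obtain ⟨θ, hθ, -, hθd⟩ := fibre_iso S r s
      have hd0 : Nonempty (Twist.twistProjSpace r (S.residueField s) d ≅ Twist.twistProjSpace r (S.residueField s) 0) := by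
        subst hr
        have htop : (⊤ : (CohB1.ProjSpace 0 (S.residueField s)).Opens) ≤ QCohLib.stdOpen 0 (S.residueField s) 0 := by
          rw [← QCohLib.iSup_stdOpen 0 (S.residueField s)]
          exact iSup_le fun i => by rw [Fin.fin_one_eq_zero i]
        obtain ⟨i⟩ := nonempty_iso_of_genAt
          (res (Twist.twistProjSpace 0 (S.residueField s) d) htop (tw 0 (S.residueField s) 0 d).sec)
          fun x => ((TwistLib.Unit'.genOn (tw 0 (S.residueField s) 0 d)).res htop).genAt trivial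
        exact ⟨i ≪≫ (twist_zero 0 _).some.symm⟩
      obtain ⟨e'⟩ := iso_of_pb_iso θ ((hθd d).some ≪≫ hd0.some ≪≫ (hθd 0).some.symm)
      exact ⟨e ≪≫ e'⟩
    · choose δ hδ using exists_deg S r hN
      have huniq : ∀ d s, s ∈ A d → δ s = d := fun d s ⟨e⟩ => deg_unique S r hr s ((hδ s).some.symm ≪≫ e)
      have hloc : IsLocallyConstant δ := (IsLocallyConstant.iff_isOpen_fiber (f := δ)).2 fun d => by
        rw [show δ ⁻¹' {d} = A d from Set.ext fun s => ⟨fun h => h ▸ hδ s, huniq d s⟩]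
        exact hA d
      exact ⟨δ s₀, fun s => hloc.apply_eq_of_preconnectedSpace s s₀ ▸ hδ s⟩
  let N' := CohB1.tensorMod N (Twist.twistOver r S (-d))
  have hN' : PicF.IsInvertible N' := HilbPolyLib.isInvertible_tensor hN (twistOver_inv r S _)
  have htriv : ∀ s, Nonempty (CohIII.fiberMod π N' s ≅ Coh.structureModule (Scheme.Hom.fiber π s)) :=
    fun s => (trivial_iff S r d s).2 (hd s)
  obtain ⟨hQ, hfp, hfl⟩ := CohCmpLib.rank_one_hyps π ((CohCmpLib.invertible_iff_rank_one N').1 hN')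
  obtain ⟨hP, hc⟩ := CohCmpLib.counit_of_trivial π (finrank_global S r) ((CohCmpLib.invertible_iff_rank_one N').1 hN')
    htriv fun s => CohCmpLib.epi_bc0_of_vanishing_one π hfp hfl s
      (CohCmpLib.subsingleton_fiberH_of_trivial π 1 s (htriv s) (h1_fibre S r s))
  refine ⟨_, d, (CohCmpLib.invertible_iff_rank_one _).2 hP, ?_⟩
  obtain ⟨e⟩ := nonempty_cancel (A := N) (Iso.refl N') (HilbPolyLib.swapIso _ _ ≪≫ (twistOver_neg r S d).some)
  exact ⟨e ≪≫ HilbPolyLib.congrLeft (@asIso _ _ _ _ _ hc).symm _⟩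

/-- A line bundle on the spectrum of a field is trivial. -/
theorem trivial_on_field {K : Type u} [Field K] {M : (Spec (CommRingCat.of K)).Modules} (hM : PicF.IsInvertible M) :
    Nonempty (M ≅ Coh.structureModule (Spec (CommRingCat.of K))) := by
  let p := IsLocalRing.closedPoint K
  obtain ⟨U, e, hp, he⟩ := TwistLib.exists_genOn hM p
  have hU : (⊤ : (Spec (CommRingCat.of K)).Opens) ≤ U := fun x _ =>
    (Subsingleton.elim (α := PrimeSpectrum K) p x) ▸ hp
  exact nonempty_iso_of_genAt (res M hU e) fun x => (he.res hU).genAt trivial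

/-- A bundle from the base is trivial on fibres. -/
theorem trivial_pulled {L : S.Modules} (hL : PicF.IsInvertible L) (s : S) :
    Nonempty (CohIII.fiberMod π ((Scheme.Modules.pullback π).obj L) s ≅ Coh.structureModule (Scheme.Hom.fiber π s)) :=
  ⟨((CohCmpLib.sqIso (Scheme.Hom.fiber_fac π s)).app L).symm ≪≫
    (Scheme.Modules.pullback (Scheme.Hom.fiberToSpecResidueField π s)).mapIso
      (trivial_on_field (AmpleDevLib.isInvertible_pb (S.fromSpecResidueField s) hL)).some ≪≫ KFlatLib.pullUnitIso _⟩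

/-- Uniqueness, in positive dimension. -/
theorem decomp_unique [Nonempty S] (hr : 1 ≤ r) {L L' : S.Modules} {d d' : ℤ} (hL : PicF.IsInvertible L)
    (hL' : PicF.IsInvertible L')
    (e : CohB1.tensorMod ((Scheme.Modules.pullback π).obj L) (Twist.twistOver r S d) ≅
      CohB1.tensorMod ((Scheme.Modules.pullback π).obj L') (Twist.twistOver r S d')) :
    d = d' ∧ Nonempty (L ≅ L') := by
  obtain ⟨s⟩ := ‹Nonempty S›
  let ι := Scheme.Hom.fiberι π s
  have hd : d = d' := deg_unique S r hr s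
    ((HilbPolyLib.unitLeft _).symm ≪≫ HilbPolyLib.congrLeft (trivial_pulled S r hL s).some.symm _ ≪≫
      (pullTens ι _ _).symm ≪≫ (Scheme.Modules.pullback ι).mapIso e ≪≫
      pullTens ι _ _ ≪≫ HilbPolyLib.congrLeft (trivial_pulled S r hL' s).some _ ≪≫
      HilbPolyLib.unitLeft _)
  subst hd
  refine ⟨rfl, ?_⟩
  obtain ⟨e'⟩ := nonempty_cancel e (twistOver_neg r S d).some
  let e'' := e' ≪≫ HilbPolyLib.assocIso _ _ _ ≪≫ HilbPolyLib.congrRight _ (twistOver_neg r S d).some ≪≫ unitRight _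
  haveI : IsIso (ClSub.unitToPush π) :=
    (CohCmpLib.isIso_unitToPush π (finrank_global S r)).2.2 (g' := 𝟙 _) (g := 𝟙 S) (IsPullback.of_horiz_isIso ⟨by simp⟩)
  have hf : ∀ {M : S.Modules}, PicF.IsInvertible M → FlatMod.IsFinLocFree M := fun hM x =>
    let ⟨U, h⟩ := (CohCmpLib.invertible_iff_rank_one _).1 hM x; ⟨U, 1, h⟩
  exact ⟨(CohCmpLib.nonempty_push_pull_iso π (hf hL)).some.symm ≪≫ (Scheme.Modules.pushforward π).mapIso e'' ≪≫
    (CohCmpLib.nonempty_push_pull_iso π (hf hL')).some⟩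

end PicPnLib
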