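import Groth.Agent.PicPnLib.Generic
import Groth.Agent.GradedCechLib.Chart
import Groth.Agent.PicUFDLib.Main
import Groth.Agent.TwistLib.PullGen
import Groth.Agent.AmpleThLib.Pow
import Groth.Agent.GenusZeroLib.PSpace

/-!
# Invertible modules on projective space over a factorial domain
-/

set_option autoImplicit false
set_option linter.style.haveILetI false
set_option maxHeartbeats 1000000
universe u

open CategoryTheory CategoryTheory.Limits AlgebraicGeometry TopologicalSpace Opposite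
open AmpleLib (res GenAt GenOn res_res res_smul res_refl)
open MvPolynomial (X C)

noncomputable section

namespace PicPnLib

theorem genOn_of_restrict {Y : Scheme.{u}} {M : Y.Modules} {U : Y.Opens} {O' : U.toScheme.Opens}
    (g : Γ(M.restrict U.ι, O')) (hg : GenOn (M.restrict U.ι) g) :
    GenOn M (show Γ(M, U.ι ''ᵁ O') from g) := fun V hV => by
  obtain ⟨W, rfl⟩ : ∃ W : U.toScheme.Opens, U.ι ''ᵁ W = V := ⟨U.ι ⁻¹ᵁ V, by
    rw [Scheme.Hom.image_preimage_eq_opensRange_inf, Scheme.Opens.opensRange_ι]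
    exact inf_eq_right.mpr (hV.trans (by rintro _ ⟨z, -, rfl⟩; exact z.2))⟩
  have hW : W ≤ O' := fun z hz => by
    obtain ⟨z', hz', e⟩ := hV (show U.ι z ∈ U.ι ''ᵁ W from ⟨z, hz, rfl⟩)
    exact (U.ι.isOpenEmbedding.injective e) ▸ hz'
  have hb := (hg W hW).comp (ConcreteCategory.bijective_of_isIso (U.ι.appIso W).hom)
  have e : (fun r : Γ(Y, U.ι ''ᵁ W) => r • res M hV (show Γ(M, U.ι ''ᵁ O') from g)) =
      (fun r : Γ((U : Scheme.{u}), W) => r • res (M.restrict U.ι) hW g) ∘ ⇑(U.ι.appIso W).hom := by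
    funext r
    show r • res M hV (show Γ(M, U.ι ''ᵁ O') from g) =
      (show Γ(Y, U.ι ''ᵁ W) from (U.ι.appIso W).inv ((U.ι.appIso W).hom r)) • res M hV (show Γ(M, U.ι ''ᵁ O') from g)
    rw [← CommRingCat.comp_apply, Iso.hom_inv_id]
    rfl
  rw [e]
  exact hb

/-- On an affine open with factorial ring of functions an invertible module has a generator. -/
theorem exists_genOn_affine {Y : Scheme.{u}} (hY : IsIntegral Y) [Nonempty Y] {D : Y.Opens} [Nonempty D.toScheme] {M : Y.Modules} (hM : PicF.IsInvertible M)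
    (hD : IsAffineOpen D) [UniqueFactorizationMonoid Γ(Y, D)] : ∃ σ : Γ(M, D), GenOn M σ := by
  haveI : IsAffine D.toScheme := hD
  haveI := hY
  haveI : UniqueFactorizationMonoid Γ(D.toScheme, ⊤) :=
    D.topIso.commRingCatIsoToRingEquiv.symm.toMulEquiv.uniqueFactorizationMonoid inferInstance
  obtain ⟨σ, hσ⟩ := PicUFDLib.exists_genOn_of_ufd (⊤ : D.toScheme.Opens) (M.restrict D.ι) fun x _ => by
    obtain ⟨U, e, hx, he⟩ := TwistLib.exists_genOn hM (D.ι x)
    exact ⟨D.ι ⁻¹ᵁ U, hx, le_top, _, he.restrict D.ι _ (by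
      rw [Scheme.Hom.image_preimage_eq_opensRange_inf]; exact inf_le_right)⟩
  have hle : D ≤ D.ι ''ᵁ (⊤ : D.toScheme.Opens) := by rw [Scheme.Opens.ι_image_top]
  exact ⟨_, (genOn_of_restrict σ hσ).res hle⟩

theorem genOn_smul {Y : Scheme.{u}} {M : Y.Modules} {W : Y.Opens} {σ : Γ(M, W)} (hσ : GenOn M σ) {r : Γ(Y, W)}
    (hr : IsUnit r) : GenOn M (r • σ) := fun V hV => by
  have hu := hr.map (Y.presheaf.map (homOfLE hV).op).hom
  have e : (fun c : Γ(Y, V) => c • res M hV (r • σ)) =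
      (fun c : Γ(Y, V) => c • res M hV σ) ∘ fun c => c * Y.presheaf.map (homOfLE hV).op r := by
    funext c
    simp only [Function.comp_apply, res_smul]
    exact smul_smul _ _ _
  rw [e]
  exact (hσ V hV).comp hu.unit.mulRight.bijective

variable (n : ℕ) (R : Type u) [CommRing R] [IsDomain R]

theorem isIntegral_projSpace : IsIntegral (CohB1.ProjSpace n R) := by
  haveI : IsReduced (CohB1.ProjSpace n R) :=
    ProjTopLib.isReduced_proj (CohB1.polyGrading n R) fun _ _ hf => hf.eq_zero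
  have h : closure ({(genPt n R : CohB1.ProjSpace n R)} : Set (CohB1.ProjSpace n R)) = Set.univ :=
    Set.eq_univ_of_forall fun y => mem_closure_iff.mpr fun V hV hy =>
      ⟨_, genPt_mem n R (V := ⟨V, hV⟩) ⟨y, hy⟩, rfl⟩
  haveI : IrreducibleSpace ↥(CohB1.ProjSpace n R) := by
    have h' : IsIrreducible (Set.univ : Set ↥(CohB1.ProjSpace n R)) := h ▸ isIrreducible_singleton.closure
    exact irreducibleSpace_def _ |>.mpr h'
  exact isIntegral_of_irreducibleSpace_of_isReduced _

local notation "S'" => MvPolynomial (Fin (n + 1)) R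
local notation "𝒮" => CohB1.polyGrading n R
local notation "P" => CohB1.ProjSpace n R
local notation "K'" => FractionRing (MvPolynomial (Fin (n + 1)) R)

/-- Scalars on a standard open. -/
def sc (i : Fin (n + 1)) : R → Γ(P, QCohLib.stdOpen n R i) := fun r =>
  Proj.awayToSection 𝒮 (X i : S') (HomogeneousLocalization.Away.mk 𝒮 (MvPolynomial.isHomogeneous_X R i) 0 (C r)
    (by rw [zero_smul]; exact MvPolynomial.isHomogeneous_C _ r))

theorem ev_sc (i : Fin (n + 1)) (r : R) : ev n R (mem_stdOpen_genPt n R i) (sc n R i r) = cK n R r := by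
  refine (ev_awayToSection n R (MvPolynomial.isHomogeneous_X R i) (mem_stdOpen_genPt n R i) 0 (C r) _).trans ?_
  rw [pow_zero, div_one]
  rfl

theorem isUnit_sc (i : Fin (n + 1)) {r : R} (hr : IsUnit r) : IsUnit (sc n R i r) := by
  obtain ⟨r', hr'⟩ := isUnit_iff_exists_inv.mp hr
  refine IsUnit.of_mul_eq_one (sc n R i r') (ev_injective n R (mem_stdOpen_genPt n R i) ?_)
  rw [map_mul, ev_sc, ev_sc, map_one, cK, cK, ← map_mul, ← map_mul, hr', map_one, map_one]

/-- The standard generator of `O(d)` on `D_i`. -/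
def tw (i : Fin (n + 1)) (d : ℤ) : TwistLib.Unit' 𝒮 d (QCohLib.stdOpen n R i) where
  i := d.toNat
  j := (-d).toNat
  num := (X i : S') ^ d.toNat
  den := (X i : S') ^ (-d).toNat
  num_mem := MvPolynomial.isHomogeneous_X_pow i _
  den_mem := MvPolynomial.isHomogeneous_X_pow i _
  deg := by omega
  num_nin x h := x.2 (x.1.isPrime.mem_of_pow_mem _ h)
  den_nin x h := x.2 (x.1.isPrime.mem_of_pow_mem _ h)

/-- The value at the generic point of a section of `O(d)`. -/
def evT {d : ℤ} {V : (P).Opens} (hV : (genPt n R : P) ∈ V) (t : Γ(Twist.twistProjSpace n R d, V)) : K' :=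
  toK n R (TwistLib.val t ⟨genPt n R, hV⟩)

theorem evT_smul {d : ℤ} {V : (P).Opens} (hV : (genPt n R : P) ∈ V) (r : Γ(P, V)) (t : Γ(Twist.twistProjSpace n R d, V)) :
    evT n R hV (r • t) = ev n R hV r * evT n R hV t :=
  (congrArg (toK n R) (TwistLib.val_smul r t ⟨genPt n R, hV⟩)).trans (map_mul _ _ _)

theorem evT_res {d : ℤ} {V W : (P).Opens} (h : W ≤ V) (hW : (genPt n R : P) ∈ W) (t : Γ(Twist.twistProjSpace n R d, V)) :
    evT n R hW (res (Twist.twistProjSpace n R d) h t) = evT n R (h hW) t := rfl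

theorem evT_tw (i : Fin (n + 1)) (d : ℤ) : evT n R (mem_stdOpen_genPt n R i) (tw n R i d).sec = xk n R i ^ d := by
  refine (toK_mk n R _ _).trans ?_
  show algebraMap S' K' ((X i : S') ^ d.toNat) / algebraMap S' K' ((X i : S') ^ (-d).toNat) = _
  rw [map_pow, map_pow]
  change xk n R i ^ _ / xk n R i ^ _ = _
  rw [← zpow_natCast, ← zpow_natCast, ← zpow_sub₀ (xk_ne_zero n R i)]
  congr 1
  omega

variable [UniqueFactorizationMonoid R]

instance ufd_stdOpen (i : Fin (n + 1)) : UniqueFactorizationMonoid Γ(P, QCohLib.stdOpen n R i) :=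
  ((RingEquiv.ofBijective _ (GenusZeroLib.chartPoly_bijective n R i)).trans
    (RingEquiv.ofBijective _ (GradedCechLib.toSec_bijective n R i))).toMulEquiv.uniqueFactorizationMonoid inferInstance

/-- Invertible modules on projective space over a factorial domain are twists. -/
theorem exists_twist {M : (P).Modules} (hM : PicF.IsInvertible M) :
    ∃ d : ℤ, Nonempty (M ≅ Twist.twistProjSpace n R d) := by
  classical
  let D := QCohLib.stdOpen n R
  haveI := isIntegral_projSpace n R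
  haveI : ∀ a, Nonempty (D a).toScheme := fun a => ⟨⟨_, mem_stdOpen_genPt n R a⟩⟩
  have hσ' : ∀ a, ∃ σ : Γ(M, D a), GenOn M σ := fun a =>
    exists_genOn_affine (isIntegral_projSpace n R) hM (Proj.isAffineOpen_basicOpen 𝒮 (X a : S') (MvPolynomial.isHomogeneous_X R a) one_pos)
  choose σ hσ using hσ'
  have hDD : ∀ a b, Proj.basicOpen 𝒮 ((X a : S') * X b) = D a ⊓ D b := fun a b => Proj.basicOpen_mul _ _ _
  have hl : ∀ a b, Proj.basicOpen 𝒮 ((X a : S') * X b) ≤ D a := fun a b => (hDD a b).trans_le inf_le_left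
  have hr : ∀ a b, Proj.basicOpen 𝒮 ((X a : S') * X b) ≤ D b := fun a b => (hDD a b).trans_le inf_le_right
  have hη : ∀ a b, (genPt n R : P) ∈ Proj.basicOpen 𝒮 ((X a : S') * X b) := fun a b =>
    (hDD a b).ge ⟨mem_stdOpen_genPt n R a, mem_stdOpen_genPt n R b⟩
  have pair : ∀ a b, ∃ (r : Γ(P, Proj.basicOpen 𝒮 ((X a : S') * X b))) (c : R) (e : ℤ), IsUnit c ∧
      r • res M (hl a b) (σ a) = res M (hr a b) (σ b) ∧
      ev n R (hη a b) r = cK n R c * mon n R (Pi.single b e - Pi.single a e) := fun a b => by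
    obtain ⟨r, hru, hre⟩ := PicUFDLib.exists_ratio ((hσ a).res (hl a b)) ((hσ b).res (hr a b))
    obtain ⟨c, e, hc, he⟩ := exists_of_isUnit n R a b hru (hη a b)
    exact ⟨r, c, e, hc, hre, he⟩
  choose r c e hc hre hev using pair
  let W : Fin (n + 1) → K' := fun a => ev n R (hη 0 a) (r 0 a)
  -- the ratios
  have hratio : ∀ (a b : Fin (n + 1)) (V : (P).Opens) (ha : V ≤ D a) (hb : V ≤ D b)
      (hV : (genPt n R : P) ∈ V) (q : Γ(P, V)), q • res M ha (σ a) = res M hb (σ b) →
        ev n R hV q * W a = W b := by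
    intro a b V ha hb hV q hq
    have hT : V ⊓ D 0 ≤ V := inf_le_left
    have ha0 : V ⊓ D 0 ≤ Proj.basicOpen 𝒮 ((X 0 : S') * X a) :=
      (le_inf inf_le_right (inf_le_left.trans ha)).trans (hDD 0 a).ge
    have hb0 : V ⊓ D 0 ≤ Proj.basicOpen 𝒮 ((X 0 : S') * X b) :=
      (le_inf inf_le_right (inf_le_left.trans hb)).trans (hDD 0 b).ge
    have hηT : (genPt n R : P) ∈ V ⊓ D 0 := ⟨hV, mem_stdOpen_genPt n R 0⟩
    have h1 := congrArg (res M hT) hq
    have h2 := congrArg (res M ha0) (hre 0 a)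
    have h3 := congrArg (res M hb0) (hre 0 b)
    simp only [res_smul, res_res] at h1 h2 h3
    rw [← h2, ← h3, smul_smul] at h1
    have h4 := (hσ 0 (V ⊓ D 0) inf_le_right).1 h1
    have h5 := congrArg (ev n R hηT) h4
    rw [map_mul, ev_res, ev_res, ev_res] at h5
    exact h5
  have hW : ∀ a, W a = cK n R (c 0 a) * mon n R (Pi.single a (e 0 a) - Pi.single 0 (e 0 a)) := fun a => hev 0 a
  -- the exponents agree
  have hexp : ∀ a b, a ≠ 0 → b ≠ 0 → e 0 a = e 0 b := by
    intro a b ha hb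
    by_cases hab : a = b
    · rw [hab]
    have h := hratio a b _ (hl a b) (hr a b) (hη a b) (r a b) (hre a b)
    rw [hev, hW, hW, mul_mul_mul_comm, cK, cK, ← map_mul, ← map_mul, ← mon_add] at h
    obtain ⟨hv, -⟩ := mon_eq_iff n R (mul_ne_zero (hc a b).ne_zero (hc 0 a).ne_zero) h
    have h0 := congrFun hv 0
    simp [ha.symm, hb.symm] at h0
    exact h0
  obtain ⟨d, hd⟩ : ∃ d : ℤ, ∀ a, a ≠ 0 → e 0 a = d := by
    by_cases h : ∃ a : Fin (n + 1), a ≠ 0
    · obtain ⟨a₁, ha₁⟩ := h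
      exact ⟨e 0 a₁, fun a ha => hexp a a₁ ha ha₁⟩
    · exact ⟨0, fun a ha => absurd ⟨a, ha⟩ h⟩
  have hWd : ∀ a, W a = cK n R (c 0 a) * xk n R a ^ d / xk n R 0 ^ d := fun a => by
    rw [hW a]
    by_cases ha : a = 0
    · subst ha
      rw [sub_self, mon_zero, mul_one, mul_div_assoc, div_self (zpow_ne_zero _ (xk_ne_zero n R 0)), mul_one]
    · rw [hd a ha, sub_eq_add_neg, ← Pi.single_neg, mon_add, mon_single, mon_single, zpow_neg, ← div_eq_mul_inv,
        mul_div_assoc]
  let t : ∀ a, Γ(Twist.twistProjSpace n R d, D a) := fun a => sc n R a (c 0 a) • (show Γ(Twist.twistProjSpace n R d, D a) from (tw n R a d).sec)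
  have ht : ∀ a, GenOn (Twist.twistProjSpace n R d) (t a) := fun a =>
    genOn_smul (tw n R a d).genOn (isUnit_sc n R a (hc 0 a))
  have hevt : ∀ a, evT n R (mem_stdOpen_genPt n R a) (t a) = W a * xk n R 0 ^ d := fun a => by
    rw [evT_smul, ev_sc, evT_tw, hWd a, div_mul_cancel₀ _ (zpow_ne_zero _ (xk_ne_zero n R 0))]
  have hcov : ∀ x : P, ∃ a, x ∈ D a := fun x =>
    Opens.mem_iSup.mp ((QCohLib.iSup_stdOpen n R).ge (Opens.mem_top x))
  obtain ⟨φ, -⟩ := AmpleThLib.exists_iso_gens D σ t hcov hσ ht fun a b V ha hb => by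
    obtain ⟨q, hq⟩ := (hσ a V ha).2 (res M hb (σ b))
    refine ⟨q, hq, ?_⟩
    obtain ⟨q', hq'⟩ := (ht a V ha).2 (res (Twist.twistProjSpace n R d) hb (t b))
    dsimp only at hq hq'
    refine Eq.trans ?_ hq'
    by_cases hne : (V : Set P).Nonempty
    · have hV : (genPt n R : P) ∈ V := genPt_mem n R hne
      have h1 := hratio a b V ha hb hV q hq
      have h2 := congrArg (evT n R hV) hq'
      rw [evT_smul, evT_res, evT_res, hevt, hevt, ← h1, ← mul_assoc] at h2
      have h3 : ev n R hV q' = ev n R hV q := by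
        have h4 := mul_right_cancel₀ (zpow_ne_zero d (xk_ne_zero n R 0)) h2
        refine mul_right_cancel₀ ?_ h4
        rw [hWd a]
        exact div_ne_zero (mul_ne_zero (cK_ne_zero n R (hc 0 a).ne_zero) (zpow_ne_zero _ (xk_ne_zero n R a)))
          (zpow_ne_zero _ (xk_ne_zero n R 0))
      rw [ev_injective n R hV h3]
    · exact TwistLib.mod_ext _ fun x hx => absurd ⟨x, hx⟩ hne
  exact ⟨d, ⟨φ⟩⟩

end PicPnLib
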