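import Groth.Agent.TwistLib.Basic
import Groth.Agent.QCohLib.ProjSpace
import Groth.Agent.GenusZeroLib.PSmooth
import Groth.Prelude.Def_CohB1

/-!
# Projective space over a domain: the generic point and the units of coordinate overlaps
-/

set_option autoImplicit false
set_option linter.style.haveILetI false
set_option maxHeartbeats 1000000
universe u

open CategoryTheory CategoryTheory.Limits AlgebraicGeometry TopologicalSpace Opposite
open MvPolynomial (X C)

noncomputable section

namespace PicPnLib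

variable (n : ℕ) (R : Type u) [CommRing R] [IsDomain R]

local notation "S'" => MvPolynomial (Fin (n + 1)) R
local notation "𝒮" => CohB1.polyGrading n R
local notation "P" => CohB1.ProjSpace n R
local notation "K'" => FractionRing (MvPolynomial (Fin (n + 1)) R)

/-- The generic point. -/
def genPt : ProjectiveSpectrum 𝒮 where
  asHomogeneousIdeal := ⊥
  isPrime := Ideal.isPrime_bot
  not_irrelevant_le h := by
    have h1 : (X 0 : S') ∈ (HomogeneousIdeal.irrelevant 𝒮) :=
      HomogeneousIdeal.mem_irrelevant_of_mem _ one_pos (MvPolynomial.isHomogeneous_X R 0)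
    exact MvPolynomial.X_ne_zero 0 ((Submodule.mem_bot S').mp (h h1))

theorem genPt_mem {V : (P).Opens} (h : (V : Set P).Nonempty) : (genPt n R : P) ∈ V := by
  obtain ⟨y, hy⟩ := h
  have hle : genPt n R ≤ y := fun a ha => by
    rw [show a = (0 : S') from (Submodule.mem_bot S').mp ha]
    exact zero_mem y.asHomogeneousIdeal.toIdeal
  exact (specializes_iff_mem_closure.mpr ((ProjectiveSpectrum.le_iff_mem_closure _ _ _).mp hle)).mem_open V.2 hy

theorem ne_zero_of_nin {a : S'} (h : a ∉ (genPt n R).asHomogeneousIdeal) : a ≠ 0 :=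
  fun e => h (e ▸ zero_mem _)

/-- From the local ring at the generic point to the fraction field. -/
def toK : Twist.Loc 𝒮 (genPt n R) →+* K' :=
  IsLocalization.lift (M := (genPt n R).asHomogeneousIdeal.toIdeal.primeCompl) (g := algebraMap S' K')
    fun y => isUnit_iff_ne_zero.mpr
      ((map_ne_zero_iff _ (IsFractionRing.injective S' K')).mpr (ne_zero_of_nin n R y.2))

theorem toK_mk (a : S') (s : (genPt n R).asHomogeneousIdeal.toIdeal.primeCompl) :
    toK n R (Localization.mk a s) = algebraMap S' K' a / algebraMap S' K' s.1 := by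
  rw [toK, Localization.mk_eq_mk', IsLocalization.lift_mk'_spec,
    mul_div_cancel₀ _ ((map_ne_zero_iff _ (IsFractionRing.injective S' K')).mpr (ne_zero_of_nin n R s.2))]

/-- The value at the generic point. -/
def ev {V : (P).Opens} (hV : (genPt n R : P) ∈ V) : Γ(P, V) →+* K' where
  toFun r := toK n R (((show Twist.O (op V) from r).1 ⟨genPt n R, hV⟩).val)
  map_one' := (congrArg (toK n R) (HomogeneousLocalization.val_one)).trans (map_one _)
  map_mul' r r' := (congrArg (toK n R) (HomogeneousLocalization.val_mul _ _)).trans (map_mul _ _ _)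
  map_zero' := (congrArg (toK n R) (HomogeneousLocalization.val_zero)).trans (map_zero _)
  map_add' r r' := (congrArg (toK n R) (HomogeneousLocalization.val_add _ _)).trans (map_add _ _ _)

theorem ev_res {V W : (P).Opens} (h : W ≤ V) (hW : (genPt n R : P) ∈ W) (r : Γ(P, V)) :
    ev n R hW ((P).presheaf.map (homOfLE h).op r) = ev n R (h hW) r := rfl

theorem ev_injective {V : (P).Opens} (hV : (genPt n R : P) ∈ V) : Function.Injective (ev n R hV) := by
  rw [injective_iff_map_eq_zero]
  intro r hr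
  refine Subtype.ext (funext fun x => HomogeneousLocalization.val_injective _ ?_)
  obtain ⟨W, hxW, i, m, a, s, hnin, hw⟩ := (show Twist.O (op V) from r).2 x
  have hη : (genPt n R : P) ∈ W := genPt_mem n R ⟨_, hxW⟩
  have h1 := hw ⟨_, hη⟩
  have h1' : ((show Twist.O (op V) from r).1 ⟨genPt n R, hV⟩).val =
      Localization.mk a.1 ⟨s.1, hnin ⟨_, hη⟩⟩ := (congrArg HomogeneousLocalization.val h1).trans
        (HomogeneousLocalization.val_mk _)
  change toK n R _ = 0 at hr
  rw [h1', toK_mk, div_eq_zero_iff] at hr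
  have ha : (a.1 : S') = 0 := by
    rcases hr with h | h
    · exact (map_eq_zero_iff _ (IsFractionRing.injective S' K')).mp h
    · exact absurd ((map_eq_zero_iff _ (IsFractionRing.injective S' K')).mp h)
        (ne_zero_of_nin n R (hnin ⟨_, hη⟩))
  refine ((congrArg HomogeneousLocalization.val (hw ⟨_, hxW⟩)).trans (HomogeneousLocalization.val_mk _)).trans ?_
  refine Eq.trans ?_ (HomogeneousLocalization.val_zero).symm
  simp only [ha]
  exact Localization.mk_zero _

theorem ev_awayToSection {f : S'} {d : ℕ} (hf : f ∈ 𝒮 d) (hη : (genPt n R : P) ∈ Proj.basicOpen 𝒮 f)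
    (m : ℕ) (p : S') (hp : p ∈ 𝒮 (m • d)) :
    ev n R hη (Proj.awayToSection 𝒮 f (HomogeneousLocalization.Away.mk 𝒮 hf m p hp)) =
      algebraMap S' K' p / algebraMap S' K' f ^ m := by
  refine (congrArg (toK n R) (?_ : _ = Localization.mk p ⟨f ^ m, ?_⟩)).trans ?_
  · exact (genPt n R).asHomogeneousIdeal.toIdeal.primeCompl.pow_mem hη m
  · rfl
  · rw [toK_mk, map_pow]

/-- The coordinates in the fraction field. -/
def xk (i : Fin (n + 1)) : K' := algebraMap S' K' (X i)

theorem xk_ne_zero (i : Fin (n + 1)) : xk n R i ≠ 0 :=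
  (map_ne_zero_iff _ (IsFractionRing.injective S' K')).mpr (MvPolynomial.X_ne_zero i)

/-- Units of scalars in the fraction field. -/
def cK (c : R) : K' := algebraMap S' K' (C c)

theorem cK_ne_zero {c : R} (hc : c ≠ 0) : cK n R c ≠ 0 :=
  (map_ne_zero_iff _ (IsFractionRing.injective S' K')).mpr (by rwa [Ne, MvPolynomial.C_eq_zero])

/-- Monomials with integer exponents. -/
def mon (v : Fin (n + 1) → ℤ) : K' := ∏ i, xk n R i ^ v i

theorem mon_add (v w : Fin (n + 1) → ℤ) : mon n R (v + w) = mon n R v * mon n R w := by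
  simp only [mon, Pi.add_apply, zpow_add₀ (xk_ne_zero n R _), Finset.prod_mul_distrib]

theorem mon_zero : mon n R 0 = 1 := by simp [mon]

theorem mon_single (i : Fin (n + 1)) (e : ℤ) : mon n R (Pi.single i e) = xk n R i ^ e := by
  rw [mon, Finset.prod_eq_single i]
  · rw [Pi.single_eq_same]
  · intro j _ hj
    rw [Pi.single_eq_of_ne hj, zpow_zero]
  · exact fun h => absurd (Finset.mem_univ i) h

theorem mon_natCast (v : Fin (n + 1) → ℕ) :
    mon n R (fun i => (v i : ℤ)) = algebraMap S' K' (MvPolynomial.monomial (Finsupp.equivFunOnFinite.symm v) 1) := by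
  simp only [mon, zpow_natCast, xk, ← map_pow, ← map_prod]
  congr 1
  rw [MvPolynomial.monomial_eq, MvPolynomial.C_1, one_mul, Finsupp.prod_fintype _ _ (fun i => pow_zero _)]
  rfl

theorem mon_eq_iff {c c' : R} (hc : c ≠ 0) {v v' : Fin (n + 1) → ℤ}
    (h : cK n R c * mon n R v = cK n R c' * mon n R v') : v = v' ∧ c = c' := by
  let N : Fin (n + 1) → ℤ := fun i => |v i| + |v' i|
  have key : ∀ w : Fin (n + 1) → ℤ, (∀ i, 0 ≤ w i) →
      mon n R w = algebraMap S' K' (MvPolynomial.monomial (Finsupp.equivFunOnFinite.symm fun i => (w i).toNat) 1) :=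
    fun w hw => by
      rw [← mon_natCast]
      exact congrArg _ (funext fun i => (Int.toNat_of_nonneg (hw i)).symm)
  have h1 := congrArg (· * mon n R N) h
  have p1 : ∀ i, 0 ≤ (v + N) i := fun i => by
    show 0 ≤ v i + (|v i| + |v' i|)
    linarith [neg_abs_le (v i), abs_nonneg (v' i)]
  have p2 : ∀ i, 0 ≤ (v' + N) i := fun i => by
    show 0 ≤ v' i + (|v i| + |v' i|)
    linarith [neg_abs_le (v' i), abs_nonneg (v i)]
  rw [mul_assoc, mul_assoc, ← mon_add, ← mon_add, key _ p1, key _ p2, cK, cK, ← map_mul,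
    ← map_mul, MvPolynomial.C_mul_monomial, MvPolynomial.C_mul_monomial, mul_one, mul_one] at h1
  rcases (MvPolynomial.monomial_eq_monomial_iff _ _ _ _).mp (IsFractionRing.injective S' K' h1) with ⟨hv, hcc⟩ | ⟨h0, -⟩
  · refine ⟨funext fun i => ?_, hcc⟩
    have := congrArg (fun f : Fin (n + 1) →₀ ℕ => (f i : ℤ)) hv
    dsimp [Finsupp.equivFunOnFinite, N] at this
    rw [Int.toNat_of_nonneg (by linarith [neg_abs_le (v i), abs_nonneg (v' i)]),
      Int.toNat_of_nonneg (by linarith [neg_abs_le (v' i), abs_nonneg (v i)])] at this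
    linarith
  · exact absurd h0 hc

theorem mem_stdOpen_genPt (i : Fin (n + 1)) : (genPt n R : P) ∈ QCohLib.stdOpen n R i :=
  fun h => MvPolynomial.X_ne_zero i ((Submodule.mem_bot S').mp h)

variable [UniqueFactorizationMonoid R]

/-- Units on the overlap of two standard opens are `c (X_j/X_i)^e`. -/
theorem exists_of_isUnit (i j : Fin (n + 1)) {u : Γ(P, Proj.basicOpen 𝒮 ((X i : S') * X j))} (hu : IsUnit u)
    (hη : (genPt n R : P) ∈ Proj.basicOpen 𝒮 ((X i : S') * X j)) :
    ∃ (c : R) (e : ℤ), IsUnit c ∧ ev n R hη u = cK n R c * mon n R (Pi.single j e - Pi.single i e) := by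
  obtain ⟨u', huu'⟩ := isUnit_iff_exists_inv.mp hu
  have hf : (X i : S') * X j ∈ 𝒮 2 := (MvPolynomial.isHomogeneous_X R i).mul (MvPolynomial.isHomogeneous_X R j)
  have hsurj : ∀ r : Γ(P, Proj.basicOpen 𝒮 ((X i : S') * X j)), ∃ (m : ℕ) (p : S'), p.IsHomogeneous (2 * m) ∧
      ev n R hη r = algebraMap S' K' p / algebraMap S' K' ((X i : S') * X j) ^ m := fun r => by
    have hi : IsIso (Proj.awayToSection 𝒮 ((X i : S') * X j)) := by
      rw [← Proj.basicOpenIsoAway_hom 𝒮 _ hf two_pos]
      infer_instance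
    obtain ⟨z, rfl⟩ := (ConcreteCategory.bijective_of_isIso (Proj.awayToSection 𝒮 ((X i : S') * X j))).2 r
    obtain ⟨m, p, hp, rfl⟩ := HomogeneousLocalization.Away.mk_surjective 𝒮 hf z
    exact ⟨m, p, by rw [mul_comm]; exact (MvPolynomial.mem_homogeneousSubmodule _ _).mp (by simpa using hp),
      ev_awayToSection n R hf hη m p hp⟩
  obtain ⟨m, p, hp, hp'⟩ := hsurj u
  obtain ⟨m', q, -, hq'⟩ := hsurj u'
  have h1 := congrArg (ev n R hη) huu'
  rw [map_mul, map_one, hp', hq', div_mul_div_comm, div_eq_one_iff_eq, ← map_pow, ← map_pow, ← map_mul, ← map_mul,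
    ← pow_add] at h1
  swap
  · exact mul_ne_zero (pow_ne_zero _ ((map_ne_zero_iff _ (IsFractionRing.injective S' K')).mpr
      (mul_ne_zero (MvPolynomial.X_ne_zero _) (MvPolynomial.X_ne_zero _))))
      (pow_ne_zero _ ((map_ne_zero_iff _ (IsFractionRing.injective S' K')).mpr
      (mul_ne_zero (MvPolynomial.X_ne_zero _) (MvPolynomial.X_ne_zero _))))
  have hdvd : p ∣ (X i : S') ^ (m + m') * X j ^ (m + m') :=
    ⟨q, by rw [← mul_pow]; exact (IsFractionRing.injective S' K' h1).symm⟩
  obtain ⟨p₁, p₂, h₁, h₂, rfl⟩ := exists_dvd_and_dvd_of_dvd_mul hdvd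
  obtain ⟨a, -, ha⟩ := (dvd_prime_pow MvPolynomial.X_prime _).mp h₁
  obtain ⟨b, -, hb⟩ := (dvd_prime_pow MvPolynomial.X_prime _).mp h₂
  obtain ⟨v, hv⟩ := (ha.mul_mul hb).symm
  obtain ⟨c, hc, hcv⟩ := MvPolynomial.isUnit_iff_eq_C_of_isReduced.mp v.isUnit
  rw [← hv, hcv] at hp hp'
  have hdeg : a + b = 2 * m := by
    have h := ((MvPolynomial.isHomogeneous_X_pow (R := R) i a).mul (MvPolynomial.isHomogeneous_X_pow j b)).mul
      (MvPolynomial.isHomogeneous_C (Fin (n + 1)) c)
    rw [add_zero] at h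
    exact h.inj_right hp (mul_ne_zero (mul_ne_zero (pow_ne_zero _ (MvPolynomial.X_ne_zero _))
      (pow_ne_zero _ (MvPolynomial.X_ne_zero _))) (by simpa using hc.ne_zero))
  refine ⟨c, (b : ℤ) - m, hc, hp'.trans ?_⟩
  have e : (Pi.single j ((b : ℤ) - m) : Fin (n + 1) → ℤ) - Pi.single i ((b : ℤ) - m) =
      ((Pi.single i (a : ℤ) : Fin (n + 1) → ℤ) + Pi.single j (b : ℤ)) + ((Pi.single i (-(m : ℤ)) : Fin (n + 1) → ℤ) + Pi.single j (-(m : ℤ))) := by
    funext l
    simp only [Pi.add_apply, Pi.sub_apply, Pi.single_apply]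
    split_ifs <;> omega
  rw [e, mon_add, mon_add, mon_add, mon_single, mon_single, mon_single, mon_single, zpow_natCast, zpow_natCast,
    zpow_neg, zpow_neg, zpow_natCast, zpow_natCast, map_mul, map_mul, map_mul, map_pow, map_pow, mul_pow]
  simp only [xk, cK]
  ring

end PicPnLib
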