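import Groth.Agent.PicPnLib.Rel
import Groth.Agent.CohCmpLib.FamilyPic
import Groth.Agent.RpushLib.AffBaseBC
import Groth.Agent.MiscFlat6.InvDual

/-!
# The seesaw principle for products with a variety with `H¹(O) = 0`
-/

set_option autoImplicit false
set_option linter.style.haveILetI false
set_option maxHeartbeats 1000000
universe u

open CategoryTheory CategoryTheory.Limits AlgebraicGeometry TopologicalSpace Opposite
open KFlatLib (pb)

noncomputable section

namespace PicPnLib

/-- Being trivial on a fibre is a closed condition when fibres are geometrically integral. -/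
theorem isClosed_trivial {X S : Scheme.{u}} (f : X ⟶ S) [IsProper f] [Flat f] [LocallyOfFinitePresentation f]
    [GeometricallyIntegral f] {L : X.Modules} (hL : PicF.IsInvertible L) :
    IsClosed {y : S | Nonempty (CohIII.fiberMod f L y ≅ Coh.structureModule (f.fiber y))} := by
  obtain ⟨e⟩ := MiscFlat6.nonempty_dualIso (L := L) hL
  let M := MiscFlat6.dual L
  have hM : PicF.IsInvertible M := MiscFlat6.dual_isInvertible (L := L) hL
  obtain ⟨hQ, hfp, hfl⟩ := CohCmpLib.rank_one_hyps f ((CohCmpLib.invertible_iff_rank_one L).1 hL)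
  obtain ⟨hQ', hfp', hfl'⟩ := CohCmpLib.rank_one_hyps f ((CohCmpLib.invertible_iff_rank_one M).1 hM)
  have hset : {y : S | Nonempty (CohIII.fiberMod f L y ≅ Coh.structureModule (f.fiber y))} =
      {y : S | Nontrivial (CohIII.fiberH f L y 0)} ∩ {y : S | Nontrivial (CohIII.fiberH f M y 0)} := by
    ext y
    refine ⟨fun ⟨a⟩ => ⟨CohCmpLib.nontrivial_of_trivial f ⟨a⟩, CohCmpLib.nontrivial_of_trivial f ?_⟩,
      fun h => CohCmpLib.trivial_of_sections f hL e y h.1 h.2⟩
    obtain ⟨d⟩ := CohCmpLib.nonempty_pullback_inverse (f.fiberι y) e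
    exact ⟨(HilbPolyLib.unitLeft _).symm ≪≫ HilbPolyLib.congrLeft a.symm _ ≪≫ d⟩
  rw [hset]
  exact (CohCmpLib.isClosed_nontrivial_fiberH f hfp hfl 0 |>.inter (CohCmpLib.isClosed_nontrivial_fiberH f hfp' hfl' 0))

variable {k : Type u} [Field k] {S T : Scheme.{u}} (s : S ⟶ Spec (CommRingCat.of k))
  (t : T ⟶ Spec (CommRingCat.of k)) [IsProper t] [GeometricallyIntegral t]

omit [GeometricallyIntegral t] in
theorem h1_baseChange {K : Type u} [Field K] [Algebra k K] {Z : Scheme.{u}} {g' : Z ⟶ T}
    {f' : Z ⟶ Spec (CommRingCat.of K)} (H : IsPullback g' f' t (Spec.map (CommRingCat.ofHom (algebraMap k K))))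
    (h1 : Subsingleton (Coh.HH T (Coh.structureModule T) 1)) : Subsingleton (Coh.HH Z (Coh.structureModule Z) 1) := by
  haveI : CompactSpace T := QuasiCompact.compactSpace_of_compactSpace t
  haveI : T.IsSeparated := ⟨by
    rw [show terminal.from T = t ≫ terminal.from _ from Subsingleton.elim _ _]
    infer_instance⟩
  haveI : Coh.IsQCoh (Coh.structureModule T) := QCohLib.isQCoh_unit
  obtain ⟨e⟩ := RpushLib.nonempty_affBase_bc (A := k) (B := K) H (Coh.structureModule T) 1
  letI := Module.compHom (Coh.HH T (Coh.structureModule T) 1) (Coh.toGlobal t)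
  haveI : Subsingleton (TensorProduct k K (Coh.HH T (Coh.structureModule T) 1)) :=
    ⟨fun a b => by
      have h0 : ∀ z : TensorProduct k K (Coh.HH T (Coh.structureModule T) 1), z = 0 := fun z => by
        induction z using TensorProduct.induction_on with
        | zero => rfl
        | tmul x m => rw [Subsingleton.elim m 0, TensorProduct.tmul_zero]
        | add a b ha hb => rw [ha, hb, add_zero]
      rw [h0 a, h0 b]⟩
  exact SerreVanLib.subsingleton_HH_of_iso (KFlatLib.pullUnitIso _).symm 1 e.symm.toEquiv.subsingleton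

/-- `H¹(O) = 0` on the fibres of the product. -/
theorem h1_prod (h1 : Subsingleton (Coh.HH T (Coh.structureModule T) 1)) (y : S) :
    Subsingleton (Coh.HH ((pullback.fst s t).fiber y) (Coh.structureModule ((pullback.fst s t).fiber y)) 1) := by
  let f := pullback.fst s t
  let φ : CommRingCat.of k ⟶ S.residueField y := Spec.preimage (S.fromSpecResidueField y ≫ s)
  have H : IsPullback (f.fiberι y ≫ pullback.snd s t) (f.fiberToSpecResidueField y) t (Spec.map φ) := by
    rw [show Spec.map φ = S.fromSpecResidueField y ≫ s from Spec.map_preimage _]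
    exact (IsPullback.of_hasPullback f (S.fromSpecResidueField y)).paste_horiz (IsPullback.of_hasPullback s t).flip
  exact @h1_baseChange k _ T t _ (S.residueField y) _ φ.hom.toAlgebra _ _ _ H h1

variable (σ : Spec (CommRingCat.of k) ⟶ S) (hσ : σ ≫ s = 𝟙 _)

/-- The section of `S ×_k T → T`. -/
def jσ : T ⟶ pullback s t :=
  pullback.lift (t ≫ σ) (𝟙 T) (by rw [Category.assoc, hσ, Category.comp_id, Category.id_comp])

omit [IsProper t] [GeometricallyIntegral t] in
theorem jσ_fst : jσ s t σ hσ ≫ pullback.fst s t = t ≫ σ := pullback.lift_fst ..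

omit [IsProper t] [GeometricallyIntegral t] in
theorem jσ_snd : jσ s t σ hσ ≫ pullback.snd s t = 𝟙 T := pullback.lift_snd ..

omit [IsProper t] [GeometricallyIntegral t] in
theorem isPullback_jσ : IsPullback (jσ s t σ hσ) t (pullback.fst s t) σ := by
  refine IsPullback.of_right ?_ (jσ_fst s t σ hσ) (IsPullback.of_hasPullback s t).flip
  rw [jσ_snd s t σ hσ, hσ]
  exact IsPullback.of_horiz_isIso ⟨by simp⟩

omit [IsProper t] [GeometricallyIntegral t] in
/-- Triviality at a rational point is detected by the section. -/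
theorem trivial_at_section {N : (pullback s t).Modules}
    (e : pb (jσ s t σ hσ) N ≅ Coh.structureModule T) :
    Nonempty (CohIII.fiberMod (pullback.fst s t) N (σ (IsLocalRing.closedPoint k)) ≅
      Coh.structureModule ((pullback.fst s t).fiber (σ (IsLocalRing.closedPoint k)))) := by
  let f := pullback.fst s t
  let x := (Scheme.SpecToEquivOfField k S σ).1
  let φ := (Scheme.SpecToEquivOfField k S σ).2
  have hfac : Spec.map φ ≫ S.fromSpecResidueField x = σ := (Scheme.SpecToEquivOfField k S).symm_apply_apply σ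
  have hψ : Spec.preimage (S.fromSpecResidueField x ≫ s) ≫ φ = 𝟙 _ := by
    apply Spec.map_injective
    rw [Spec.map_comp, Spec.map_preimage, ← Category.assoc, hfac, hσ, Spec.map_id]
  have hbij : Function.Bijective φ.hom :=
    ⟨φ.hom.injective, fun a => ⟨_, ConcreteCategory.congr_hom hψ a⟩⟩
  haveI : IsIso φ := (ConcreteCategory.isIso_iff_bijective φ).2 hbij
  let a : T ⟶ f.fiber x := pullback.lift (jσ s t σ hσ) (t ≫ Spec.map φ)
    (by rw [Category.assoc, hfac]; exact jσ_fst s t σ hσ)
  have ha1 : a ≫ f.fiberι x = jσ s t σ hσ := pullback.lift_fst ..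
  have ha2 : a ≫ f.fiberToSpecResidueField x = t ≫ Spec.map φ := pullback.lift_snd ..
  have hsq : IsPullback a t (f.fiberToSpecResidueField x) (Spec.map φ) := by
    refine IsPullback.of_right ?_ ha2 (IsPullback.of_hasPullback f (S.fromSpecResidueField x))
    rw [show a ≫ pullback.fst f (S.fromSpecResidueField x) = jσ s t σ hσ from ha1, hfac]
    exact isPullback_jσ s t σ hσ
  haveI : IsIso a := hsq.isIso_fst_of_isIso
  have hx : x = σ (IsLocalRing.closedPoint k) := rfl
  rw [← hx]
  exact iso_of_pb_iso a (((Scheme.Modules.pullbackComp a _).app N) ≪≫ (Scheme.Modules.pullbackCongr ha1).app N ≪≫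
    e ≪≫ (KFlatLib.pullUnitIso a).symm)

omit [IsProper t] [GeometricallyIntegral t] in
/-- Restricting along the section. -/
theorem restrict_section {L : S.Modules} {M : T.Modules} (hL : PicF.IsInvertible L) :
    Nonempty (pb (jσ s t σ hσ) (CohB1.tensorMod ((Scheme.Modules.pullback (pullback.fst s t)).obj L)
      ((Scheme.Modules.pullback (pullback.snd s t)).obj M)) ≅ M) :=
  ⟨pullTens _ _ _ ≪≫
    HilbPolyLib.congrLeft ((Scheme.Modules.pullbackComp _ _).app L ≪≫
      (Scheme.Modules.pullbackCongr (jσ_fst s t σ hσ)).app L ≪≫ ((Scheme.Modules.pullbackComp t σ).app L).symm ≪≫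
      (Scheme.Modules.pullback t).mapIso (trivial_on_field (AmpleDevLib.isInvertible_pb σ hL)).some ≪≫
      KFlatLib.pullUnitIso t) _ ≪≫
    HilbPolyLib.congrRight _ ((Scheme.Modules.pullbackComp _ _).app M ≪≫
      (Scheme.Modules.pullbackCongr (jσ_snd s t σ hσ)).app M ≪≫ (Scheme.Modules.pullbackId T).app M) ≪≫
    HilbPolyLib.unitLeft M⟩

include hσ in
/-- The seesaw decomposition. -/
theorem exists_product_decomp [PreconnectedSpace S] (h1 : Subsingleton (Coh.HH T (Coh.structureModule T) 1))
    {N : (pullback s t).Modules} (hN : PicF.IsInvertible N) :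
    ∃ (L : S.Modules) (M : T.Modules), PicF.IsInvertible L ∧ PicF.IsInvertible M ∧
      Nonempty (N ≅ CohB1.tensorMod ((Scheme.Modules.pullback (pullback.fst s t)).obj L)
        ((Scheme.Modules.pullback (pullback.snd s t)).obj M)) := by
  let f := pullback.fst s t
  let g := pullback.snd s t
  let M := pb (jσ s t σ hσ) N
  have hM : PicF.IsInvertible M := AmpleDevLib.isInvertible_pb _ hN
  obtain ⟨eM⟩ := MiscFlat6.nonempty_dualIso (L := M) hM
  let N' := CohB1.tensorMod N (pb g (MiscFlat6.dual M))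
  have hN' : PicF.IsInvertible N' :=
    HilbPolyLib.isInvertible_tensor hN (AmpleDevLib.isInvertible_pb g (MiscFlat6.dual_isInvertible (L := M) hM))
  haveI : LocallyOfFinitePresentation t := LocallyOfFinitePresentation.iff_locallyOfFiniteType.2 inferInstance
  haveI : Flat t := inferInstance
  have e : pb (jσ s t σ hσ) N' ≅ Coh.structureModule T :=
    pullTens _ _ _ ≪≫ HilbPolyLib.congrRight _ ((Scheme.Modules.pullbackComp _ _).app _ ≪≫
      (Scheme.Modules.pullbackCongr (jσ_snd s t σ hσ)).app _ ≪≫ (Scheme.Modules.pullbackId T).app _) ≪≫ eM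
  let A : Set S := {y | Nonempty (CohIII.fiberMod f N' y ≅ Coh.structureModule (f.fiber y))}
  have hA : IsClopen A := ⟨isClosed_trivial f hN', isOpen_trivial f hN' (h1_prod s t h1)⟩
  have hAu : A = Set.univ := hA.eq_univ ⟨_, trivial_at_section s t σ hσ e⟩
  have htriv : ∀ y, Nonempty (CohIII.fiberMod f N' y ≅ Coh.structureModule (f.fiber y)) := fun y =>
    (hAu ▸ Set.mem_univ y : y ∈ A)
  obtain ⟨hQ, hfp, hfl⟩ := CohCmpLib.rank_one_hyps f ((CohCmpLib.invertible_iff_rank_one N').1 hN')
  obtain ⟨hP, hc⟩ := CohCmpLib.counit_of_trivial f (CohCmpLib.finrank_global_of_geometricallyIntegral f)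
    ((CohCmpLib.invertible_iff_rank_one N').1 hN') htriv fun y => CohCmpLib.epi_bc0_of_vanishing_one f hfp hfl y
      (CohCmpLib.subsingleton_fiberH_of_trivial f 1 y (htriv y) (h1_prod s t h1 y))
  refine ⟨_, M, (CohCmpLib.invertible_iff_rank_one _).2 hP, hM, ?_⟩
  obtain ⟨e'⟩ := nonempty_cancel (A := N) (Iso.refl N') (B' := pb g M)
    ((pullTens g _ _).symm ≪≫ (Scheme.Modules.pullback g).mapIso (HilbPolyLib.swapIso _ _ ≪≫ eM) ≪≫
      KFlatLib.pullUnitIso g)
  exact ⟨e' ≪≫ HilbPolyLib.congrLeft (@asIso _ _ _ _ _ hc).symm _⟩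

include hσ in
theorem product_decomp_unique {L L' : S.Modules} {M M' : T.Modules} (hL : PicF.IsInvertible L)
    (hL' : PicF.IsInvertible L') (hM' : PicF.IsInvertible M')
    (e : CohB1.tensorMod ((Scheme.Modules.pullback (pullback.fst s t)).obj L) ((Scheme.Modules.pullback (pullback.snd s t)).obj M) ≅
      CohB1.tensorMod ((Scheme.Modules.pullback (pullback.fst s t)).obj L') ((Scheme.Modules.pullback (pullback.snd s t)).obj M')) :
    Nonempty (L ≅ L') ∧ Nonempty (M ≅ M') := by
  let f := pullback.fst s t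
  let g := pullback.snd s t
  haveI : LocallyOfFinitePresentation t := LocallyOfFinitePresentation.iff_locallyOfFiniteType.2 inferInstance
  have eM : M ≅ M' := (restrict_section s t σ hσ hL).some.symm ≪≫
    (Scheme.Modules.pullback (jσ s t σ hσ)).mapIso e ≪≫ (restrict_section s t σ hσ hL').some
  obtain ⟨d⟩ := MiscFlat6.nonempty_dualIso (L := M') hM'
  have hneg : CohB1.tensorMod (pb g M') (pb g (MiscFlat6.dual M')) ≅ Coh.structureModule _ :=
    (pullTens g _ _).symm ≪≫ (Scheme.Modules.pullback g).mapIso d ≪≫ KFlatLib.pullUnitIso g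
  obtain ⟨e'⟩ := nonempty_cancel (A := pb f L)
    (HilbPolyLib.congrRight _ ((Scheme.Modules.pullback g).mapIso eM.symm) ≪≫ e) hneg
  let e'' := e' ≪≫ HilbPolyLib.assocIso _ _ _ ≪≫ HilbPolyLib.congrRight _ hneg ≪≫ unitRight _
  haveI : IsIso (ClSub.unitToPush f) :=
    (CohCmpLib.isIso_unitToPush f (CohCmpLib.finrank_global_of_geometricallyIntegral f)).2.2 (g' := 𝟙 _) (g := 𝟙 S)
      (IsPullback.of_horiz_isIso ⟨by simp⟩)
  have hf : ∀ {A : S.Modules}, PicF.IsInvertible A → FlatMod.IsFinLocFree A := fun hA x =>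
    let ⟨U, h⟩ := (CohCmpLib.invertible_iff_rank_one _).1 hA x; ⟨U, 1, h⟩
  exact ⟨⟨(CohCmpLib.nonempty_push_pull_iso f (hf hL)).some.symm ≪≫ (Scheme.Modules.pushforward f).mapIso e'' ≪≫
    (CohCmpLib.nonempty_push_pull_iso f (hf hL')).some⟩, ⟨eM⟩⟩

end PicPnLib
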